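import Groth.Agent.LBDesc.Ring
import Groth.Agent.GaTorsorZar.Main
import Mathlib.RingTheory.Localization.Away.Basic

/-!
# A cocycle for the law `s + t + λ s t` is Zariski-locally a coboundary
-/

set_option autoImplicit false
set_option linter.style.haveILetI false

universe u

open TensorProduct

noncomputable section

namespace Groth.Agent.SekTorsor

variable {A B : Type u} [CommRing A] [CommRing B] [Algebra A B] [Module.FaithfullyFlat A B]

theorem exists_solution (lam : A)
    (W : ∀ (R : Type u) [CommRing R] [Algebra A R] [Module.Flat A R], (B →ₐ[A] R) → (B →ₐ[A] R) → R)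
    (hnat : ∀ (R R' : Type u) [CommRing R] [Algebra A R] [Module.Flat A R] [CommRing R'] [Algebra A R']
      [Module.Flat A R'] (f : R →ₐ[A] R') (φ ψ : B →ₐ[A] R), f (W R φ ψ) = W R' (f.comp φ) (f.comp ψ))
    (hone : ∀ (R : Type u) [CommRing R] [Algebra A R] [Module.Flat A R] (φ : B →ₐ[A] R), W R φ φ = 0)
    (hcoc : ∀ (R : Type u) [CommRing R] [Algebra A R] [Module.Flat A R] (φ ψ χ : B →ₐ[A] R),
      W R φ χ = W R φ ψ + W R ψ χ + algebraMap A R lam * W R φ ψ * W R ψ χ)
    (P : PrimeSpectrum A) :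
    ∃ f : A, f ∉ P.asIdeal ∧ ∃ y : Localization.Away (algebraMap A B f),
      IsUnit (1 + algebraMap A _ lam * y) ∧
      ∀ (R : Type u) [CommRing R] [Algebra A R] [Module.Flat A R]
        (l r : Localization.Away (algebraMap A B f) →ₐ[A] R),
        r y = l y + W R (l.comp (IsScalarTower.toAlgHom A B _)) (r.comp (IsScalarTower.toAlgHom A B _)) +
          algebraMap A R lam * l y * W R (l.comp (IsScalarTower.toAlgHom A B _)) (r.comp (IsScalarTower.toAlgHom A B _)) := by
  classical
  let U : ∀ (R : Type u) [CommRing R] [Algebra A R] [Module.Flat A R], (B →ₐ[A] R) → (B →ₐ[A] R) → R :=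
    fun R _ _ _ φ ψ => 1 + algebraMap A R lam * W R φ ψ
  obtain ⟨f₁, hf₁, m, n, hmn, hm⟩ := LBDesc.exists_coboundary U
    (fun R R' _ _ _ _ _ _ f φ ψ => by simp only [U, map_add, map_one, map_mul, AlgHom.commutes, hnat])
    (fun R _ _ _ φ => by simp only [U, hone, mul_zero, add_zero])
    (fun R _ _ _ φ ψ χ => by simp only [U, hcoc R φ ψ χ]; ring) P
  have hWl : ∀ (R : Type u) [CommRing R] [Algebra A R] [Module.Flat A R] (φ ψ : B →ₐ[A] R),
      Algebra.TensorProduct.lift φ ψ (fun _ _ => Commute.all _ _)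
        (W (B ⊗[A] B) Algebra.TensorProduct.includeLeft Algebra.TensorProduct.includeRight) = W R φ ψ :=
    fun R _ _ _ φ ψ => by
    rw [hnat, Algebra.TensorProduct.lift_comp_includeLeft, Algebra.TensorProduct.lift_comp_includeRight']
  have hUm : ∀ (R : Type u) [CommRing R] [Algebra A R] [Module.Flat A R] (φ ψ : B →ₐ[A] R),
      U R φ ψ * φ m = ψ m := fun R _ _ _ φ ψ => by
    have h := congrArg (Algebra.TensorProduct.lift φ ψ (fun _ _ => Commute.all _ _)) hm
    simpa only [U, map_mul, map_add, map_one, AlgHom.commutes, hWl, Algebra.TensorProduct.lift_tmul,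
      _root_.mul_one, _root_.one_mul] using h
  have hUn : ∀ (R : Type u) [CommRing R] [Algebra A R] [Module.Flat A R] (φ ψ : B →ₐ[A] R),
      algebraMap A R f₁ * (ψ n * U R φ ψ) = algebraMap A R f₁ * φ n := fun R _ _ _ φ ψ => by
    have e1 : φ m * φ n = algebraMap A R f₁ := by rw [← map_mul, hmn, AlgHom.commutes]
    have e2 : ψ m * ψ n = algebraMap A R f₁ := by rw [← map_mul, hmn, AlgHom.commutes]
    calc algebraMap A R f₁ * (ψ n * U R φ ψ) = ψ n * (U R φ ψ * φ m) * φ n := by rw [← e1]; ring
      _ = (ψ m * ψ n) * φ n := by rw [hUm]; ring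
      _ = _ := by rw [e2]
  let Z : ∀ (R : Type u) [CommRing R] [Algebra A R] [Module.Flat A R], (B →ₐ[A] R) → (B →ₐ[A] R) → R :=
    fun R _ _ _ φ ψ => algebraMap A R f₁ * W R φ ψ * ψ n
  obtain ⟨z, hz⟩ := GaTorsorZar.exists_primitive Z
    (fun R R' _ _ _ _ _ _ f φ ψ => by simp only [Z, map_mul, AlgHom.commutes, hnat, AlgHom.comp_apply])
    (fun R _ _ _ φ ψ χ => by
      simp only [Z, hcoc R φ ψ χ]
      have h := hUn R ψ χ
      simp only [U] at h
      linear_combination -(W R φ ψ) * h)
  let ιl : B →ₐ[A] B ⊗[A] B := Algebra.TensorProduct.includeLeft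
  let ιr : B →ₐ[A] B ⊗[A] B := Algebra.TensorProduct.includeRight
  have hzr : ιr z - ιl z = Z (B ⊗[A] B) ιl ιr := hz.symm
  obtain ⟨a₀, ha₀⟩ : ∃ a₀, algebraMap A B a₀ = algebraMap A B f₁ * n + algebraMap A B lam * z := by
    have h := hUn (B ⊗[A] B) ιl ιr
    simp only [U] at h
    simp only [Z] at hzr
    have e : ιl (algebraMap A B f₁ * n + algebraMap A B lam * z) =
        ιr (algebraMap A B f₁ * n + algebraMap A B lam * z) := by
      simp only [map_add, map_mul, AlgHom.commutes]
      linear_combination -h - algebraMap A (B ⊗[A] B) lam * hzr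
    exact (Algebra.IsEffective.eqLocus_includeLeft_includeRight (.of_faithfullyFlat A B)).le e
  obtain ⟨t, ht⟩ : ∃ t : A, a₀ + lam * t ∉ P.asIdeal := by
    by_cases hl : lam ∈ P.asIdeal
    · refine ⟨0, fun h => ?_⟩
      rw [mul_zero, add_zero] at h
      obtain ⟨Q, hQ⟩ := PrimeSpectrum.comap_surjective_of_faithfullyFlat (B := B) P
      have hQa : ∀ x : A, x ∈ P.asIdeal → algebraMap A B x ∈ Q.asIdeal := fun x hx => by
        rw [← hQ] at hx
        exact hx
      have hQf : algebraMap A B f₁ ∉ Q.asIdeal := fun hx => hf₁ (by rw [← hQ]; exact hx)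
      have h1 : algebraMap A B f₁ * n ∈ Q.asIdeal := by
        have := Q.asIdeal.sub_mem (hQa a₀ h) (Q.asIdeal.mul_mem_right z (hQa lam hl))
        rwa [ha₀, add_sub_cancel_right] at this
      rcases Q.isPrime.mem_or_mem h1 with h2 | h2
      · exact hQf h2
      · exact hQf (hmn ▸ Q.asIdeal.mul_mem_left m h2)
    · by_cases ha : a₀ ∈ P.asIdeal
      · exact ⟨1, fun h => hl (by rw [mul_one] at h; simpa using P.asIdeal.sub_mem h ha)⟩
      · exact ⟨0, by rwa [mul_zero, add_zero]⟩
  let a₁ := a₀ + lam * t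
  let z' := z + algebraMap A B t
  refine ⟨f₁ * a₁, fun h => (P.isPrime.mem_or_mem h).elim hf₁ ht, ?_⟩
  let Bf := Localization.Away (algebraMap A B (f₁ * a₁))
  let β : B →ₐ[A] Bf := IsScalarTower.toAlgHom A B Bf
  have hu : IsUnit (algebraMap A Bf f₁ * algebraMap A Bf a₁) := by
    rw [← map_mul, IsScalarTower.algebraMap_apply A B Bf]
    exact IsLocalization.Away.algebraMap_isUnit _
  obtain ⟨i, hi⟩ := (isUnit_of_mul_isUnit_left hu).exists_right_inv
  have hmu : IsUnit (β m) := by
    refine isUnit_of_mul_isUnit_left (y := β n) ?_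
    rw [← map_mul, hmn, AlgHom.commutes]
    exact isUnit_of_mul_isUnit_left hu
  refine ⟨β (m * z') * i * i, ?_, ?_⟩
  · have e : (1 : Bf) + algebraMap A Bf lam * (β (m * z') * i * i) = β m * algebraMap A Bf a₁ * i * i := by
      have e1 : β (algebraMap A B f₁ * algebraMap A B f₁ + algebraMap A B lam * (m * z')) =
          β (m * algebraMap A B a₁) := by
        congr 1
        simp only [z', a₁, map_add, map_mul]
        linear_combination -(algebraMap A B f₁) * hmn - m * ha₀
      simp only [map_add, map_mul, AlgHom.commutes] at e1 ⊢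
      linear_combination (i * i) * e1 - (1 + algebraMap A Bf f₁ * i) * hi
    rw [e]
    have hi' : IsUnit i := IsUnit.of_mul_eq_one_right _ hi
    exact ((hmu.mul (isUnit_of_mul_isUnit_right hu)).mul hi').mul hi'
  · intro R _ _ _ l r
    set φ := l.comp β
    set ψ := r.comp β
    have hii : l i = r i := by
      refine left_inv_eq_right_inv (a := algebraMap A R f₁) ?_ ?_
      · rw [mul_comm, ← l.commutes f₁, ← map_mul, hi, map_one]
      · rw [← r.commutes f₁, ← map_mul, hi, map_one]
    have hri : algebraMap A R f₁ * r i = 1 := by rw [← r.commutes f₁, ← map_mul, hi, map_one]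
    have hzR : ψ z' - φ z' = algebraMap A R f₁ * W R φ ψ * ψ n := by
      have h := congrArg (Algebra.TensorProduct.lift φ ψ (fun _ _ => Commute.all _ _)) hz
      simp only [Z, map_mul, AlgHom.commutes, hWl, map_sub, Algebra.TensorProduct.lift_tmul,
        map_one, _root_.mul_one, _root_.one_mul, Algebra.TensorProduct.includeRight_apply] at h
      simp only [z', map_add, AlgHom.commutes]
      linear_combination -h
    have hψ : ψ m * ψ n = algebraMap A R f₁ := by rw [← map_mul, hmn, AlgHom.commutes]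
    have hU := hUm R φ ψ
    simp only [U] at hU
    show r (β (m * z') * i * i) = l (β (m * z') * i * i) + W R φ ψ +
      algebraMap A R lam * l (β (m * z') * i * i) * W R φ ψ
    simp only [map_mul, hii]
    show ψ m * ψ z' * r i * r i = φ m * φ z' * r i * r i + W R φ ψ +
      algebraMap A R lam * (φ m * φ z' * r i * r i) * W R φ ψ
    linear_combination (-(φ z' * r i * r i)) * hU + (ψ m * r i * r i) * hzR +
      (algebraMap A R f₁ * W R φ ψ * r i * r i) * hψ +
      (W R φ ψ * (algebraMap A R f₁ * r i + 1)) * hri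

end Groth.Agent.SekTorsor
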