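import Groth.Prelude.Def_SekSuwa
import Mathlib.AlgebraicGeometry.Group.Affine
import Mathlib.RingTheory.Flat.Stability
import Mathlib.RingTheory.Localization.Away.Basic

/-!
# Points of the one-parameter groups over a scheme over the base ring
-/

set_option autoImplicit false
set_option linter.style.haveILetI false
set_option synthInstance.maxHeartbeats 400000

universe u

open CategoryTheory Limits MonoidalCategory CartesianMonoidalCategory MonObj AlgebraicGeometry WithConv
open scoped TensorProduct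

noncomputable section

namespace Groth.Agent.SekTorsor

variable {R : Type u} [CommRing R] {lam : R}

/-- functions of a morphism to an affine scheme -/
def fn {A : Type u} [CommRing A] {T : Scheme.{u}} (g : T ⟶ Spec (CommRingCat.of A)) : A →+* Γ(T, ⊤) :=
  ((Scheme.ΓSpecIso (CommRingCat.of A)).inv ≫ g.appTop).hom

theorem fn_comp {A : Type u} [CommRing A] {T T' : Scheme.{u}} (h : T' ⟶ T) (g : T ⟶ Spec (CommRingCat.of A))
    (r : A) : fn (h ≫ g) r = h.appTop (fn g r) := rfl

theorem fn_SpecMap {A A' : Type u} [CommRing A] [CommRing A'] {T : Scheme.{u}} (φ : A →+* A')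
    (g : T ⟶ Spec (CommRingCat.of A')) : fn (g ≫ Spec.map (CommRingCat.ofHom φ)) = (fn g).comp φ := by
  rw [fn, Scheme.Hom.comp_appTop, ← Scheme.ΓSpecIso_inv_naturality_assoc]
  rfl

theorem fn_toSpecΓ {A : Type u} [CommRing A] {T : Scheme.{u}} (φ : A →+* Γ(T, ⊤)) :
    fn (T.toSpecΓ ≫ Spec.map (CommRingCat.ofHom φ)) = φ := by
  rw [fn, Scheme.Hom.comp_appTop, ← Scheme.ΓSpecIso_inv_naturality_assoc, Scheme.toSpecΓ_appTop,
    Iso.inv_hom_id, Category.comp_id]
  rfl

theorem fn_ext {A : Type u} [CommRing A] {T : Scheme.{u}} {x y : T ⟶ Spec (CommRingCat.of A)}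
    (h : fn x = fn y) : x = y := by
  apply ext_of_isAffine
  rw [← cancel_epi (Scheme.ΓSpecIso _).inv]
  exact CommRingCat.hom_ext h

theorem ringHom_ext_A {B : Type u} [CommRing B] {φ ψ : SekSuwa.A R lam →+* B}
    (hR : ∀ r, φ (algebraMap R _ r) = ψ (algebraMap R _ r)) (ht : φ SekSuwa.A.t = ψ SekSuwa.A.t) : φ = ψ := by
  letI : Algebra R B := (φ.comp (algebraMap R _)).toAlgebra
  let φ' : SekSuwa.A R lam →ₐ[R] B := { φ with commutes' := fun _ => rfl }
  let ψ' : SekSuwa.A R lam →ₐ[R] B := { ψ with commutes' := fun r => (hR r).symm }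
  have hu : φ' SekSuwa.A.u = ψ' SekSuwa.A.u := by
    rw [SekSuwa.A.u, map_add, map_add, map_one, map_one, map_smul, map_smul]
    exact congrArg (fun z => 1 + lam • z) ht
  have hi : φ' SekSuwa.A.inv = ψ' SekSuwa.A.inv := by
    refine left_inv_eq_right_inv (a := φ' SekSuwa.A.u) ?_ ?_
    · rw [← map_mul, SekSuwa.A.inv_mul_u, map_one]
    · rw [hu, ← map_mul, SekSuwa.A.u_mul_inv, map_one]
  exact congrArg AlgHom.toRingHom (SekSuwa.A.algHom_ext (f := φ') (g := ψ') ht hi)

variable {X : Scheme.{u}} {f : X ⟶ Spec (CommRingCat.of R)} {W W' : Over X}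

/-- the scalars -/
def scal (f : X ⟶ Spec (CommRingCat.of R)) (W : Over X) : R →+* Γ(W.left, ⊤) := fn (W.hom ≫ f)

theorem scal_comp (p : W' ⟶ W) (r : R) : p.left.appTop (scal f W r) = scal f W' r := by
  rw [scal, scal, ← fn_comp, ← Category.assoc, Over.w]

/-- the coordinate of a point -/
def bfn (x : W ⟶ Red.bc f (SekSuwa.G R lam)) : Γ(W.left, ⊤) :=
  fn (A := SekSuwa.A R lam) (x.left ≫ pullback.fst _ _) SekSuwa.A.t

theorem bfn_comp (p : W' ⟶ W) (x : W ⟶ Red.bc f (SekSuwa.G R lam)) : bfn (p ≫ x) = p.left.appTop (bfn x) := by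
  rw [bfn, Over.comp_left, Category.assoc, fn_comp]
  rfl

theorem fn_algebraMap (x : W ⟶ Red.bc f (SekSuwa.G R lam)) (r : R) :
    fn (A := SekSuwa.A R lam) (x.left ≫ pullback.fst _ _) (algebraMap R _ r) = scal f W r := by
  have e : (x.left ≫ pullback.fst (SekSuwa.G R lam).hom f) ≫
      Spec.map (CommRingCat.ofHom (algebraMap R (SekSuwa.A R lam))) = W.hom ≫ f := by
    rw [Category.assoc, ← Over.w x]
    show x.left ≫ pullback.fst _ _ ≫ (SekSuwa.G R lam).hom = _
    rw [pullback.condition]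
    exact (Category.assoc _ _ _).symm
  refine Eq.trans ?_ (congrArg (fun g => fn g r) e)
  exact (RingHom.congr_fun (fn_SpecMap (algebraMap R (SekSuwa.A R lam)) (x.left ≫ pullback.fst _ _)) r).symm

theorem bfn_ext {x y : W ⟶ Red.bc f (SekSuwa.G R lam)} (h : bfn x = bfn y) : x = y := by
  apply Over.OverMorphism.ext
  refine pullback.hom_ext (fn_ext (ringHom_ext_A (fun r => ?_) h)) ((Over.w x).trans (Over.w y).symm)
  exact (fn_algebraMap x r).trans (fn_algebraMap y r).symm

theorem isUnit_bfn (x : W ⟶ Red.bc f (SekSuwa.G R lam)) : IsUnit (1 + scal f W lam * bfn x) := by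
  have h := (SekSuwa.A.isUnit_u (R := R) (lam := lam)).map (fn (A := SekSuwa.A R lam) (x.left ≫ pullback.fst _ _))
  rwa [SekSuwa.A.u_def, map_add, map_one, map_mul, fn_algebraMap] at h

theorem exists_bfn (b : Γ(W.left, ⊤)) (hb : IsUnit (1 + scal f W lam * b)) :
    ∃ x : W ⟶ Red.bc f (SekSuwa.G R lam), bfn x = b := by
  letI : Algebra R Γ(W.left, ⊤) := (scal f W).toAlgebra
  let φ : SekSuwa.A R lam →ₐ[R] Γ(W.left, ⊤) := SekSuwa.A.lift R lam b ↑(hb.unit⁻¹) (by
    rw [Algebra.smul_def]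
    exact hb.mul_val_inv)
  refine ⟨Over.homMk (pullback.lift (W.left.toSpecΓ ≫ Spec.map (CommRingCat.ofHom φ.toRingHom)) W.hom
    ?_) (pullback.lift_snd _ _ _), ?_⟩
  · apply fn_ext
    show fn ((W.left.toSpecΓ ≫ Spec.map (CommRingCat.ofHom φ.toRingHom)) ≫
      Spec.map (CommRingCat.ofHom (algebraMap R (SekSuwa.A R lam)))) = fn (W.hom ≫ f)
    rw [fn_SpecMap, fn_toSpecΓ]
    exact RingHom.ext φ.commutes
  · refine Eq.trans (congrArg (fun g : W.left ⟶ Spec (CommRingCat.of (SekSuwa.A R lam)) => fn g SekSuwa.A.t)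
      (pullback.lift_fst _ _ _)) ?_
    exact (RingHom.congr_fun (fn_toSpecΓ φ.toRingHom) _).trans (SekSuwa.A.lift_t _ _ _)

theorem adj_symm_left (x : W ⟶ Red.bc f (SekSuwa.G R lam)) :
    (((Over.mapPullbackAdj f).homEquiv _ _).symm x).left = x.left ≫ pullback.fst _ _ := by
  rw [Adjunction.homEquiv_counit]
  simp [Over.mapPullbackAdj]

theorem adj_symm_mul (x y : W ⟶ Red.bc f (SekSuwa.G R lam)) :
    ((Over.mapPullbackAdj f).homEquiv _ _).symm (x * y) =
      ((Over.mapPullbackAdj f).homEquiv _ _).symm x * ((Over.mapPullbackAdj f).homEquiv _ _).symm y := by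
  apply ((Over.mapPullbackAdj f).homEquiv _ _).injective
  rw [Equiv.apply_symm_apply, Adjunction.homEquiv_unit, Functor.map_mul, MonObj.comp_mul,
    ← Adjunction.homEquiv_unit, ← Adjunction.homEquiv_unit, Equiv.apply_symm_apply, Equiv.apply_symm_apply]

/-- the coordinate of a point over the base ring -/
def rfn {T : Over (Spec (CommRingCat.of R))} (x : T ⟶ SekSuwa.G R lam) : Γ(T.left, ⊤) :=
  fn (A := SekSuwa.A R lam) x.left SekSuwa.A.t

theorem rfn_mul_spec {C : Type u} [CommRing C] [Algebra R C]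
    (x y : (Spec (CommRingCat.of C)).asOver (Spec (CommRingCat.of R)) ⟶ SekSuwa.G R lam) :
    rfn (x * y) = rfn x + rfn y +
      fn (A := R) ((Spec (CommRingCat.of C)).asOver (Spec (CommRingCat.of R))).hom lam * rfn x * rfn y := by
  obtain ⟨φ, rfl⟩ := (Spec.mapMulEquiv (R := R) (S := SekSuwa.A R lam) (T := C)).surjective x
  obtain ⟨ψ, rfl⟩ := (Spec.mapMulEquiv (R := R) (S := SekSuwa.A R lam) (T := C)).surjective y
  rw [← map_mul]
  have e : ∀ χ : WithConv (SekSuwa.A R lam →ₐ[R] C),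
      rfn (Spec.mapMulEquiv (R := R) χ) =
        (Scheme.ΓSpecIso (CommRingCat.of C)).inv (χ.ofConv SekSuwa.A.t) := fun χ => by
    change fn (Spec.map (CommRingCat.ofHom χ.ofConv.toRingHom)) _ = _
    rw [fn, ← Scheme.ΓSpecIso_inv_naturality]
    rfl
  have es : fn (A := R) ((Spec (CommRingCat.of C)).asOver (Spec (CommRingCat.of R))).hom lam =
      (Scheme.ΓSpecIso (CommRingCat.of C)).inv (algebraMap R C lam) := by
    change fn (Spec.map (CommRingCat.ofHom (algebraMap R C))) _ = _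
    rw [fn, ← Scheme.ΓSpecIso_inv_naturality]
    rfl
  rw [e, e, e, es, AlgHom.convMul_apply, SekSuwa.A.comul_t]
  simp [Algebra.smul_def, mul_assoc]
  rfl

theorem rfn_comp {T T' : Over (Spec (CommRingCat.of R))} (p : T' ⟶ T) (x : T ⟶ SekSuwa.G R lam) :
    rfn (p ≫ x) = p.left.appTop (rfn x) := rfl

theorem rfn_mul {T : Over (Spec (CommRingCat.of R))} (x y : T ⟶ SekSuwa.G R lam) :
    rfn (x * y) = rfn x + rfn y + fn (A := R) T.hom lam * rfn x * rfn y := by
  letI : Algebra R Γ(T.left, ⊤) := (fn (A := R) T.hom).toAlgebra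
  let T' := (Spec (CommRingCat.of Γ(T.left, ⊤))).asOver (Spec (CommRingCat.of R))
  let m : T ⟶ T' := Over.homMk T.left.toSpecΓ (fn_ext (fn_toSpecΓ (fn (A := R) T.hom)))
  have h : ∀ z : T ⟶ SekSuwa.G R lam, ∃ z' : T' ⟶ SekSuwa.G R lam, m ≫ z' = z := fun z => by
    have hz : (fn (A := SekSuwa.A R lam) z.left).comp (algebraMap R (SekSuwa.A R lam)) = fn (A := R) T.hom := by
      rw [← fn_SpecMap]
      exact congrArg fn (Over.w z)
    refine ⟨Over.homMk (Spec.map (CommRingCat.ofHom (fn (A := SekSuwa.A R lam) z.left))) ?_, ?_⟩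
    · change Spec.map _ ≫ Spec.map (CommRingCat.ofHom (algebraMap R (SekSuwa.A R lam))) =
        Spec.map (CommRingCat.ofHom (algebraMap R Γ(T.left, ⊤)))
      rw [← Spec.map_comp, ← CommRingCat.ofHom_comp, hz]
    · apply Over.OverMorphism.ext
      exact fn_ext (fn_toSpecΓ (fn (A := SekSuwa.A R lam) z.left))
  obtain ⟨x', rfl⟩ := h x
  obtain ⟨y', rfl⟩ := h y
  have hl : fn (A := R) T.hom lam = m.left.appTop (fn (A := R) T'.hom lam) := by
    rw [← fn_comp, Over.w m]
  rw [← MonObj.comp_mul, rfn_comp, rfn_comp, rfn_comp, rfn_mul_spec, hl]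
  simp only [map_add, map_mul]
  rfl

theorem bfn_eq_rfn (x : W ⟶ Red.bc f (SekSuwa.G R lam)) :
    bfn x = rfn (((Over.mapPullbackAdj f).homEquiv _ _).symm x) := by
  rw [rfn, adj_symm_left]
  rfl

theorem bfn_mul (x y : W ⟶ Red.bc f (SekSuwa.G R lam)) :
    bfn (x * y) = bfn x + bfn y + scal f W lam * bfn x * bfn y := by
  rw [bfn_eq_rfn, bfn_eq_rfn, bfn_eq_rfn, adj_symm_mul, rfn_mul]
  rfl

theorem bfn_one : bfn (1 : W ⟶ Red.bc f (SekSuwa.G R lam)) = 0 := by
  have h := bfn_mul (1 : W ⟶ Red.bc f (SekSuwa.G R lam)) 1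
  rw [show (1 : W ⟶ Red.bc f (SekSuwa.G R lam)) * 1 = 1 from MulOneClass.one_mul _] at h
  refine ((isUnit_bfn (1 : W ⟶ Red.bc f (SekSuwa.G R lam))).mul_right_eq_zero).1 ?_
  linear_combination -h

theorem flat_A : Module.Flat R (SekSuwa.A R lam) := by
  let P := MvPolynomial (Fin 1) R
  let u₀ : P := 1 + lam • MvPolynomial.X 0
  let L := Localization.Away u₀
  let ev : P →ₐ[R] SekSuwa.A R lam := MvPolynomial.aeval fun _ => SekSuwa.A.t
  have hev : ev u₀ = SekSuwa.A.u := by
    show ev (1 + lam • MvPolynomial.X 0) = _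
    rw [SekSuwa.A.u, map_add, map_one, map_smul]
    exact congrArg (fun z => 1 + lam • z) (MvPolynomial.aeval_X _ _)
  have hu : IsUnit (ev u₀) := hev ▸ SekSuwa.A.isUnit_u
  let ψ : L →ₐ[R] SekSuwa.A R lam :=
    { IsLocalization.Away.lift u₀ (g := ev.toRingHom) hu with
      commutes' := fun c => by
        show IsLocalization.Away.lift u₀ (g := ev.toRingHom) hu (algebraMap R L c) = _
        rw [IsScalarTower.algebraMap_apply R P L]
        exact (IsLocalization.Away.lift_eq u₀ hu _).trans (ev.commutes c) }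
  have hU : IsUnit (algebraMap P L u₀) := IsLocalization.Away.algebraMap_isUnit u₀
  let φ : SekSuwa.A R lam →ₐ[R] L := SekSuwa.A.lift R lam (algebraMap P L (MvPolynomial.X 0)) ↑(hU.unit⁻¹) (by
    have e : (1 : L) + lam • algebraMap P L (MvPolynomial.X 0) = algebraMap P L u₀ := by
      rw [map_add, map_one, Algebra.smul_def, Algebra.smul_def, map_mul, ← IsScalarTower.algebraMap_apply]
    rw [e]
    exact hU.mul_val_inv)
  have ht : ψ (φ SekSuwa.A.t) = SekSuwa.A.t := by
    rw [show φ SekSuwa.A.t = algebraMap P L (MvPolynomial.X 0) from SekSuwa.A.lift_t _ _ _]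
    show IsLocalization.Away.lift u₀ (g := ev.toRingHom) hu (algebraMap P L _) = _
    rw [IsLocalization.Away.lift_eq]
    exact MvPolynomial.aeval_X _ _
  haveI : Module.Flat R L := Module.Flat.trans R P L
  refine Module.Flat.of_retract φ.toLinearMap ψ.toLinearMap
    (congrArg AlgHom.toLinearMap ?_ : (ψ.comp φ).toLinearMap = (AlgHom.id R (SekSuwa.A R lam)).toLinearMap)
  exact AlgHom.ext fun a => RingHom.congr_fun
    (ringHom_ext_A (φ := (ψ.comp φ).toRingHom) (ψ := RingHom.id _) (fun r => (ψ.comp φ).commutes r) ht) a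

theorem flat_bc (f : X ⟶ Spec (CommRingCat.of R)) : Flat (Red.bc f (SekSuwa.G R lam)).hom := by
  haveI : Flat (SekSuwa.G R lam).hom := by
    show Flat (Spec.map (CommRingCat.ofHom (algebraMap R (SekSuwa.A R lam))))
    exact Flat.SpecMap_iff.2 (RingHom.flat_algebraMap_iff.2 flat_A)
  show Flat (pullback.snd _ _)
  exact MorphismProperty.pullback_snd _ _ inferInstance

theorem isAffineHom_bc (f : X ⟶ Spec (CommRingCat.of R)) : IsAffineHom (Red.bc f (SekSuwa.G R lam)).hom := by
  haveI : IsAffineHom (SekSuwa.G R lam).hom := by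
    haveI : IsAffine (SekSuwa.G R lam).left := inferInstanceAs (IsAffine (Spec _))
    exact isAffineHom_of_isAffine _
  show IsAffineHom (pullback.snd _ _)
  exact MorphismProperty.pullback_snd _ _ inferInstance

end Groth.Agent.SekTorsor
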