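import Groth.Agent.GmTorsorZar.Main
import Groth.Agent.SekTorsor.Alg
import Groth.Agent.SekTorsor.Pts

/-!
# Torsors under the one-parameter groups are locally trivial for the Zariski topology
-/

set_option autoImplicit false
set_option linter.style.haveILetI false
set_option maxHeartbeats 800000

universe u

noncomputable section

open CategoryTheory Limits MonoidalCategory CartesianMonoidalCategory MonObj AlgebraicGeometry
open scoped TensorProduct

namespace Groth.Agent.SekTorsor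

open Groth.Agent.GmTorsorZar (tr tr_comp tr_one tr_mul existsUnique_tr)

variable {R₀ : Type u} [CommRing R₀] {lam : R₀} {S : Scheme.{u}} {f₀ : S ⟶ Spec (CommRingCat.of R₀)}

theorem exists_local_section {X : Over S} (a : AlgGrp.Action (Red.bc f₀ (SekSuwa.G R₀ lam)) X)
    (h : NonAbH1.IsPseudoTorsorSch a) [IsAffineHom X.hom] [Flat X.hom] [Surjective X.hom] (s : S) :
    ∃ (D : Scheme.{u}) (j : D ⟶ S), IsOpenImmersion j ∧ s ∈ Set.range j ∧ ∃ x : D ⟶ X.left, x ≫ X.hom = j := by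
  obtain ⟨_, ⟨V, hV, rfl⟩, hsV, -⟩ := S.isBasis_affineOpens.exists_subset_of_mem_open (Set.mem_univ s) isOpen_univ
  let U := X.hom ⁻¹ᵁ V
  have hU : IsAffineOpen U := hV.preimage X.hom
  let A := Γ(S, V)
  let B := Γ(X.left, U)
  let φ₀ := X.hom.appLE V U le_rfl
  letI : Algebra A B := φ₀.hom.toAlgebra
  have hfl : φ₀.hom.Flat := X.hom.flat_appLE hV hU le_rfl
  haveI : Module.Flat A B := hfl
  have hτ : hU.fromSpec ≫ X.hom = Spec.map φ₀ ≫ hV.fromSpec :=
    (hV.SpecMap_appLE_fromSpec X.hom hU le_rfl).symm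
  have hsurj : ∀ P : PrimeSpectrum A, ∃ Q : PrimeSpectrum B, PrimeSpectrum.comap (algebraMap A B) Q = P := fun P => by
    obtain ⟨y, hy⟩ := X.hom.surjective (hV.fromSpec P)
    have hyU : y ∈ U := show X.hom y ∈ V by rw [hy]; exact hV.range_fromSpec.le ⟨P, rfl⟩
    refine ⟨hU.primeIdealOf ⟨y, hyU⟩, hV.fromSpec.isOpenEmbedding.injective ?_⟩
    show hV.fromSpec (Spec.map φ₀ (hU.primeIdealOf ⟨y, hyU⟩)) = _
    rw [← Scheme.Hom.comp_apply, ← hτ, Scheme.Hom.comp_apply, hU.fromSpec_primeIdealOf, hy]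
  haveI : Module.FaithfullyFlat A B := Module.FaithfullyFlat.of_comap_surjective hsurj
  let T : ∀ (R : Type u) [CommRing R] [Algebra A R], Over S :=
    fun R _ _ => Over.mk (Spec.map (CommRingCat.ofHom (algebraMap A R)) ≫ hV.fromSpec)
  let pt : ∀ (R : Type u) [CommRing R] [Algebra A R], (B →ₐ[A] R) → (T R ⟶ X) := fun R _ _ φ =>
    Over.homMk (Spec.map (CommRingCat.ofHom φ.toRingHom) ≫ hU.fromSpec) (by
      show (_ ≫ _) ≫ X.hom = _
      rw [Category.assoc, hτ, ← Spec.map_comp_assoc]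
      congr 2
      ext z
      exact φ.commutes z)
  let ε : ∀ (R : Type u) [CommRing R], Γ(Spec (CommRingCat.of R), ⊤) →+* R := fun R _ =>
    (Scheme.ΓSpecIso (CommRingCat.of R)).hom.hom
  let lamA : A := ε A (fn (A := R₀) (hV.fromSpec ≫ f₀) lam)
  have hεscal : ∀ (R : Type u) [CommRing R] [Algebra A R],
      ε R (scal f₀ (T R) lam) = algebraMap A R lamA := fun R _ _ => by
    show ε R (fn (A := R₀) ((Spec.map (CommRingCat.ofHom (algebraMap A R)) ≫ hV.fromSpec) ≫ f₀) lam) = _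
    rw [Category.assoc, fn_comp]
    exact RingHom.congr_fun (congrArg CommRingCat.Hom.hom
      (Scheme.ΓSpecIso_naturality (CommRingCat.ofHom (algebraMap A R)))) (fn (A := R₀) (hV.fromSpec ≫ f₀) lam)
  have hεmul : ∀ (R : Type u) [CommRing R] [Algebra A R] (g g' : T R ⟶ Red.bc f₀ (SekSuwa.G R₀ lam)),
      ε R (bfn (W := T R) (g * g')) = ε R (bfn (W := T R) g) + ε R (bfn (W := T R) g') +
        algebraMap A R lamA * ε R (bfn (W := T R) g) * ε R (bfn (W := T R) g') := fun R _ _ g g' => by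
    rw [bfn_mul, map_add, map_add, map_mul, map_mul, hεscal]
  let W : ∀ (R : Type u) [CommRing R] [Algebra A R] [Module.Flat A R], (B →ₐ[A] R) → (B →ₐ[A] R) → R :=
    fun R _ _ _ φ ψ => ε R (bfn (W := T R) (existsUnique_tr a h (pt R φ) (pt R ψ)).exists.choose)
  have hWspec : ∀ (R : Type u) [CommRing R] [Algebra A R] [Module.Flat A R] (φ ψ : B →ₐ[A] R)
      (g : T R ⟶ Red.bc f₀ (SekSuwa.G R₀ lam)), tr a g (pt R φ) = pt R ψ → W R φ ψ = ε R (bfn (W := T R) g) :=
    fun R _ _ _ φ ψ g hg => by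
    show ε R (bfn (W := T R) _) = _
    rw [(existsUnique_tr a h (pt R φ) (pt R ψ)).unique (existsUnique_tr a h (pt R φ) (pt R ψ)).exists.choose_spec hg]
  have hW : ∀ (R : Type u) [CommRing R] [Algebra A R] [Module.Flat A R] (φ ψ : B →ₐ[A] R),
      ∃ g : T R ⟶ Red.bc f₀ (SekSuwa.G R₀ lam), tr a g (pt R φ) = pt R ψ ∧ W R φ ψ = ε R (bfn (W := T R) g) :=
    fun R _ _ _ φ ψ =>
    ⟨_, (existsUnique_tr a h (pt R φ) (pt R ψ)).exists.choose_spec, rfl⟩
  have hεnat : ∀ (R R' : Type u) [CommRing R] [Algebra A R] [CommRing R'] [Algebra A R'] (f : R →ₐ[A] R')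
      (c : Γ(Spec (CommRingCat.of R), ⊤)),
      ε R' ((Spec.map (CommRingCat.ofHom f.toRingHom)).appTop c) = f (ε R c) := fun R R' _ _ _ _ f c =>
    RingHom.congr_fun (congrArg CommRingCat.Hom.hom
      (Scheme.ΓSpecIso_naturality (CommRingCat.ofHom f.toRingHom))) c
  have hnat : ∀ (R R' : Type u) [CommRing R] [Algebra A R] [Module.Flat A R] [CommRing R'] [Algebra A R']
      [Module.Flat A R'] (f : R →ₐ[A] R') (φ ψ : B →ₐ[A] R),
      f (W R φ ψ) = W R' (f.comp φ) (f.comp ψ) := fun R R' _ _ _ _ _ _ f φ ψ => by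
    obtain ⟨g, hg, e⟩ := hW R φ ψ
    let p : T R' ⟶ T R := Over.homMk (Spec.map (CommRingCat.ofHom f.toRingHom)) (by
      show _ ≫ _ ≫ _ = _
      rw [← Spec.map_comp_assoc]
      congr 2
      ext z
      exact f.commutes z)
    have hp : ∀ χ : B →ₐ[A] R, p ≫ pt R χ = pt R' (f.comp χ) := fun χ => by
      ext1
      show Spec.map (CommRingCat.ofHom f.toRingHom) ≫ Spec.map (CommRingCat.ofHom χ.toRingHom) ≫ hU.fromSpec =
        Spec.map (CommRingCat.ofHom (f.comp χ).toRingHom) ≫ hU.fromSpec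
      rw [← Spec.map_comp_assoc]
      rfl
    have := congrArg (p ≫ ·) hg
    simp only [tr_comp, hp] at this
    rw [hWspec R' _ _ _ this, e, bfn_comp]
    exact (hεnat R R' f (bfn g)).symm
  have hone : ∀ (R : Type u) [CommRing R] [Algebra A R] [Module.Flat A R] (φ : B →ₐ[A] R), W R φ φ = 0 :=
    fun R _ _ _ φ => by rw [hWspec R φ φ 1 (tr_one a _), bfn_one, map_zero]
  have hcoc : ∀ (R : Type u) [CommRing R] [Algebra A R] [Module.Flat A R] (φ ψ χ : B →ₐ[A] R),
      W R φ χ = W R φ ψ + W R ψ χ + algebraMap A R lamA * W R φ ψ * W R ψ χ := fun R _ _ _ φ ψ χ => by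
    obtain ⟨g, hg, e⟩ := hW R φ ψ
    obtain ⟨g', hg', e'⟩ := hW R ψ χ
    rw [hWspec R φ χ (g' * g) (by rw [tr_mul, hg, hg']), hεmul, e, e']
    ring
  obtain ⟨P, hP⟩ : ∃ P : PrimeSpectrum A, hV.fromSpec P = s := hV.range_fromSpec.ge hsV
  obtain ⟨f, hfP, y, hy, hye⟩ := exists_solution lamA W hnat hone hcoc P
  let Af := Localization.Away f
  let Bf := Localization.Away (algebraMap A B f)
  haveI : Module.Flat A Bf := Module.Flat.trans A B Bf
  have hu : IsUnit (algebraMap A Bf f) := by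
    rw [IsScalarTower.algebraMap_apply A B Bf]
    exact IsLocalization.Away.algebraMap_isUnit _
  let j' := Spec.map (CommRingCat.ofHom (algebraMap A Af))
  haveI : IsOpenImmersion j' := IsOpenImmersion.of_isLocalization f
  refine ⟨_, j' ≫ hV.fromSpec, inferInstance, ?_, ?_⟩
  · obtain ⟨w, hw⟩ := (PrimeSpectrum.localization_away_comap_range Af f).ge (show P ∈ PrimeSpectrum.basicOpen f from hfP)
    exact ⟨w, by rw [Scheme.Hom.comp_apply]; exact (congrArg hV.fromSpec hw).trans hP⟩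
  let κ : Af →+* Bf := IsLocalization.Away.lift f hu
  let q := Spec.map (CommRingCat.ofHom κ)
  have hq : q ≫ j' = Spec.map (CommRingCat.ofHom (algebraMap A Bf)) := by
    rw [← Spec.map_comp, ← CommRingCat.ofHom_comp, IsLocalization.Away.lift_comp]
  haveI : Flat q := by
    haveI : Flat (q ≫ j') := by
      rw [hq]
      exact Flat.SpecMap_iff.2 (RingHom.flat_algebraMap_iff.2 inferInstance)
    have sq : IsPullback q (𝟙 _) j' (q ≫ j') := IsPullback.of_isLimit' ⟨by simp⟩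
      (PullbackCone.IsLimit.mk _ (fun t => t.snd)
        (fun t => (cancel_mono j').1 (by rw [Category.assoc]; exact t.condition.symm)) (fun t => by simp)
        (fun t l _ h₂ => by simpa using h₂))
    exact MorphismProperty.of_isPullback sq.flip inferInstance
  haveI : Surjective q := ⟨fun w => by
    obtain ⟨Q, hQ⟩ := hsurj (j' w)
    have hQf : algebraMap A B f ∉ Q.asIdeal := fun hmem =>
      (PrimeSpectrum.localization_away_comap_range Af f).le ⟨w, rfl⟩ (by
        have : f ∈ (PrimeSpectrum.comap (algebraMap A B) Q).asIdeal := hmem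
        rw [hQ] at this
        exact this)
    obtain ⟨z, hz⟩ := (PrimeSpectrum.localization_away_comap_range Bf (algebraMap A B f)).ge
      (show Q ∈ PrimeSpectrum.basicOpen (algebraMap A B f) from hQf)
    refine ⟨z, j'.isOpenEmbedding.injective ?_⟩
    rw [← Scheme.Hom.comp_apply, hq, ← hQ, ← hz]
    exact congrArg (fun r => PrimeSpectrum.comap r z) (IsScalarTower.algebraMap_eq A B Bf)⟩
  haveI : EffectiveEpi q := inferInstance
  let β : B →ₐ[A] Bf := IsScalarTower.toAlgHom A B Bf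
  obtain ⟨w, hw⟩ := hy.exists_right_inv
  let b₀ : Γ((T Bf).left, ⊤) := (Scheme.ΓSpecIso (CommRingCat.of Bf)).inv (-(y * w))
  have hb₀ : IsUnit (1 + scal f₀ (T Bf) lam * b₀) := by
    have e : (1 : Bf) + algebraMap A Bf lamA * (-(y * w)) = w := by linear_combination -hw
    have hwu : IsUnit w := IsUnit.of_mul_eq_one_right _ hw
    let w₀ : Γ((T Bf).left, ⊤) := (Scheme.ΓSpecIso (CommRingCat.of Bf)).inv w
    have e' : 1 + scal f₀ (T Bf) lam * b₀ = w₀ := by
      apply (Scheme.ΓSpecIso (CommRingCat.of Bf)).commRingCatIsoToRingEquiv.injective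
      show ε Bf _ = ε Bf _
      have hι : ∀ c : Bf, ε Bf ((Scheme.ΓSpecIso (CommRingCat.of Bf)).inv c) = c := fun c =>
        RingHom.congr_fun (congrArg CommRingCat.Hom.hom (Scheme.ΓSpecIso (CommRingCat.of Bf)).inv_hom_id) c
      rw [map_add, map_mul, map_one, hεscal, show ε Bf b₀ = -(y * w) from hι _,
        show ε Bf w₀ = w from hι _, e]
    rw [e']
    exact hwu.map (Scheme.ΓSpecIso (CommRingCat.of Bf)).inv.hom
  obtain ⟨g₀, hg₀⟩ := exists_bfn (f := f₀) (W := T Bf) _ hb₀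
  let x₀ := tr a g₀ (pt Bf β)
  let R2 := Bf ⊗[A] Bf
  let l : Bf →ₐ[A] R2 := Algebra.TensorProduct.includeLeft
  let r : Bf →ₐ[A] R2 := Algebra.TensorProduct.includeRight
  let L : T R2 ⟶ T Bf := Over.homMk (Spec.map (CommRingCat.ofHom l.toRingHom)) (by
    show _ ≫ _ ≫ _ = _
    rw [← Spec.map_comp_assoc]
    congr 2)
  let Rr : T R2 ⟶ T Bf := Over.homMk (Spec.map (CommRingCat.ofHom r.toRingHom)) (by
    show _ ≫ _ ≫ _ = _
    rw [← Spec.map_comp_assoc]
    congr 2
    ext z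
    exact r.commutes z)
  have hkey : L ≫ x₀ = Rr ≫ x₀ := by
    have hpt : ∀ (ω : Bf →ₐ[A] R2) (p : T R2 ⟶ T Bf), p.left = Spec.map (CommRingCat.ofHom ω.toRingHom) →
        p ≫ pt Bf β = pt R2 (ω.comp β) ∧ ε R2 (bfn (W := T R2) (p ≫ g₀)) = -(ω y * ω w) := fun ω p hp => by
      refine ⟨?_, ?_⟩
      · ext1
        show p.left ≫ _ ≫ _ = _
        rw [hp, ← Spec.map_comp_assoc]
        rfl
      · rw [bfn_comp, hp, hg₀]
        refine (hεnat Bf R2 ω _).trans ((congrArg ω (RingHom.congr_fun (congrArg CommRingCat.Hom.hom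
          (Scheme.ΓSpecIso (CommRingCat.of Bf)).inv_hom_id) (-(y * w)))).trans ?_)
        simp
    obtain ⟨hl₁, hl₂⟩ := hpt l L rfl
    obtain ⟨hr₁, hr₂⟩ := hpt r Rr rfl
    obtain ⟨g, hg, e⟩ := hW R2 (l.comp β) (r.comp β)
    rw [tr_comp, tr_comp, hl₁, hr₁, ← hg, ← tr_mul]
    congr 1
    refine bfn_ext ((Scheme.ΓSpecIso (CommRingCat.of R2)).commRingCatIsoToRingEquiv.injective ?_)
    show ε R2 (bfn (W := T R2) (L ≫ g₀)) = ε R2 (bfn (W := T R2) (Rr ≫ g₀ * g))
    refine hl₂.trans (Eq.trans ?_ (hεmul R2 (Rr ≫ g₀) g).symm)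
    rw [hr₂, ← e]
    have hy' : r y = l y + W R2 (l.comp β) (r.comp β) + algebraMap A R2 lamA * l y * W R2 (l.comp β) (r.comp β) :=
      hye R2 l r
    have hwl : (1 + algebraMap A R2 lamA * l y) * l w = 1 := by
      rw [← l.commutes, ← map_mul, ← map_one l, ← map_add, ← map_mul, hw]
    have hwr : (1 + algebraMap A R2 lamA * r y) * r w = 1 := by
      rw [← r.commutes, ← map_mul, ← map_one r, ← map_add, ← map_mul, hw]
    refine (IsUnit.of_mul_eq_one _ hwl).mul_left_cancel ?_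
    linear_combination -(l y) * hwl + (r y) * hwr + (1 - algebraMap A R2 lamA * r y * r w) * hy'
  have hkey' : Spec.map (CommRingCat.ofHom (Algebra.TensorProduct.includeLeftRingHom : Bf →+* R2)) ≫ x₀.left =
      Spec.map (CommRingCat.ofHom (Algebra.TensorProduct.includeRight : Bf →ₐ[A] R2).toRingHom) ≫ x₀.left :=
    congrArg CommaMorphism.left hkey
  have hdesc : ∀ {Z : Scheme.{u}} (y z : Z ⟶ Spec (CommRingCat.of Bf)), y ≫ q = z ≫ q → y ≫ x₀.left = z ≫ x₀.left := by
    intro Z y z e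
    have e' : y ≫ Spec.map (CommRingCat.ofHom (algebraMap A Bf)) = z ≫ Spec.map (CommRingCat.ofHom (algebraMap A Bf)) := by
      rw [← hq, reassoc_of% e]
    have h1 : (pullback.lift y z e' ≫ (pullbackSpecIso A Bf Bf).hom) ≫
        Spec.map (CommRingCat.ofHom (Algebra.TensorProduct.includeLeftRingHom : Bf →+* R2)) = y := by
      rw [Category.assoc, pullbackSpecIso_hom_fst, pullback.lift_fst]
    have h2 : (pullback.lift y z e' ≫ (pullbackSpecIso A Bf Bf).hom) ≫
        Spec.map (CommRingCat.ofHom (Algebra.TensorProduct.includeRight : Bf →ₐ[A] R2).toRingHom) = z := by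
      rw [Category.assoc]
      erw [pullbackSpecIso_hom_snd]
      exact pullback.lift_snd _ _ _
    exact (congrArg (· ≫ x₀.left) h1).symm.trans ((Category.assoc _ _ _).trans
      ((congrArg _ hkey').trans ((Category.assoc _ _ _).symm.trans (congrArg (· ≫ x₀.left) h2))))
  refine ⟨EffectiveEpi.desc q x₀.left hdesc, (cancel_epi q).1 ?_⟩
  rw [← Category.assoc, EffectiveEpi.fac, ← Category.assoc, hq]
  exact Over.w x₀

theorem isTorsorFor_zariski {X : Over S} (a : AlgGrp.Action (Red.bc f₀ (SekSuwa.G R₀ lam)) X)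
    (h : NonAbH1.IsTorsorFor Scheme.fpqcPrecoverage a) : NonAbH1.IsTorsorFor Scheme.zariskiPrecoverage a := by
  haveI := isAffineHom_bc (lam := lam) f₀
  haveI := flat_bc (lam := lam) f₀
  obtain ⟨_, _⟩ := S6004.result (Red.bc f₀ (SekSuwa.G R₀ lam)) X a h
  obtain ⟨R, hR, hs⟩ := h.2
  haveI : Surjective X.hom := ⟨fun s => by
    obtain ⟨_, g, hg, ⟨y, rfl⟩⟩ := (Presieve.mem_comap_jointlySurjectivePrecoverage_iff Scheme.forget).1
      hR.2.1 s
    obtain ⟨t, rfl⟩ := hs g hg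
    exact ⟨t y, (Scheme.Hom.comp_apply _ _ _).symm⟩⟩
  choose D j hj hjs x hx using exists_local_section a h.1
  refine ⟨h.1, Presieve.ofArrows D j, ⟨?_, ?_⟩, ?_⟩
  · exact (Presieve.mem_comap_jointlySurjectivePrecoverage_iff Scheme.forget).2 fun s => ⟨_, _, ⟨s⟩, hjs s⟩
  · rintro _ _ ⟨i⟩
    exact hj i
  · rintro _ _ ⟨i⟩
    exact ⟨x i, hx i⟩

end Groth.Agent.SekTorsor
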